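import Mathlib
import Cfsg.Agent.Classical.HermGroup

/-!
Pairs of complementary totally isotropic subspaces of a hermitian space and their stabilisers.
-/

set_option autoImplicit false
set_option linter.unusedSectionVars false
set_option linter.style.haveILetI false

namespace Cfsg.Agent.HermPair

open Module Cfsg.Agent.Classical Cfsg.Agent.Classical.Herm

variable {F V : Type*} [Field F] [Finite F] [AddCommGroup V] [Module F V] [FiniteDimensional F V] {σ : F →+* F}
  {B : V →ₛₗ[σ] V →ₗ[F] F}

/-- Complementary totally isotropic subspaces of dimension `m`. -/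
structure Pair (B : V →ₛₗ[σ] V →ₗ[F] F) (m : ℕ) (U W : Submodule F V) : Prop where
  iu : ∀ a ∈ U, ∀ b ∈ U, B a b = 0
  iw : ∀ a ∈ W, ∀ b ∈ W, B a b = 0
  compl : IsCompl U W
  du : finrank F U = m
  dw : finrank F W = m

variable {m : ℕ} {U W : Submodule F V}

theorem Pair.symm (hP : Pair B m U W) : Pair B m W U := ⟨hP.iw, hP.iu, hP.compl.symm, hP.dw, hP.du⟩

theorem Pair.sep (hB : IsHerm B) (hP : Pair B m U W) {w : V} (hw : w ∈ W) (h : ∀ u ∈ U, B u w = 0) : w = 0 := by
  refine hB.nondeg w fun y => ?_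
  obtain ⟨u, hu, w', hw', rfl⟩ := Submodule.mem_sup.1 (show y ∈ U ⊔ W by rw [hP.compl.sup_eq_top]; trivial)
  rw [map_add, hP.iw w hw w' hw', add_zero, eq_zero_comm hB]
  exact h u hu

/-- A basis of `U` and its dual in `W`. -/
theorem Pair.exists_dual (hB : IsHerm B) (hP : Pair B m U W) (u : Fin m → V) (hu : ∀ i, u i ∈ U)
    (hi : LinearIndependent F u) :
    ∃ w : Fin m → V, (∀ i, w i ∈ W) ∧ (∀ i j, B (u i) (w j) = if i = j then 1 else 0) ∧
      ∃ b : Basis (Fin m ⊕ Fin m) F V, ∀ i, b i = Sum.elim u w i := by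
  classical
  have hspan : Submodule.span F (Set.range u) = U := Submodule.eq_of_le_of_finrank_eq
    (Submodule.span_le.2 (by rintro _ ⟨i, rfl⟩; exact hu i))
    (by rw [finrank_span_eq_card hi, Fintype.card_fin, hP.du])
  let T : W →ₗ[F] (Fin m → F) := LinearMap.pi fun i => (B (u i)).comp W.subtype
  have hT : Function.Injective T := (injective_iff_map_eq_zero T).2 fun w hw => by
    refine Subtype.ext (hP.sep hB w.2 fun x hx => ?_)
    rw [← hspan] at hx
    induction hx using Submodule.span_induction with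
    | mem x hx => obtain ⟨i, rfl⟩ := hx; exact congrFun hw i
    | zero => simp
    | add a b _ _ ha hb => simp [ha, hb]
    | smul c a _ ha => simp [ha]
  have hTs := (LinearMap.injective_iff_surjective_of_finrank_eq_finrank
    (by rw [hP.dw, Module.finrank_fin_fun])).1 hT
  choose w hw using fun j : Fin m => hTs (Pi.single j 1)
  have hd : ∀ i j, B (u i) (w j).1 = if i = j then 1 else 0 := fun i j =>
    (congrFun (hw j) i).trans (Pi.single_apply j (1 : F) i)
  refine ⟨fun j => (w j).1, fun j => (w j).2, hd, ?_⟩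
  have hli : LinearIndependent F (Sum.elim u fun j => (w j).1) := by
    rw [Fintype.linearIndependent_iff]
    intro g hg
    rw [Fintype.sum_sum_type] at hg
    simp only [Sum.elim_inl, Sum.elim_inr] at hg
    have hr : ∀ j, g (Sum.inr j) = 0 := fun j => by
      have := congrArg (B (u j)) hg
      simpa [map_sum, hd, hP.iu _ (hu j) _ (hu _)] using this
    have hl : ∀ j, g (Sum.inl j) = 0 := by
      refine Fintype.linearIndependent_iff.1 hi _ ?_
      simpa [hr] using hg
    rintro (i | i)
    · exact hl i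
    · exact hr i
  have hV : finrank F V = m + m := by
    rw [← Submodule.finrank_add_eq_of_isCompl hP.compl, hP.du, hP.dw]
  exact ⟨basisOfLinearIndependentOfCardEqFinrank' _ hli (by rw [Fintype.card_sum, Fintype.card_fin, hV]),
    fun i => by simp⟩

theorem gram (hB : IsHerm B) (hP : Pair B m U W) {u w : Fin m → V} (hu : ∀ i, u i ∈ U) (hw : ∀ i, w i ∈ W)
    (hd : ∀ i j, B (u i) (w j) = if i = j then 1 else 0) (i j : Fin m ⊕ Fin m) :
    B (Sum.elim u w i) (Sum.elim u w j) =
      Sum.elim (fun a => Sum.elim (fun _ => 0) (fun b => if a = b then (1 : F) else 0) j)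
        (fun a => Sum.elim (fun b => if b = a then (1 : F) else 0) (fun _ => 0) j) i := by
  rcases i with a | a <;> rcases j with b | b <;> simp only [Sum.elim_inl, Sum.elim_inr]
  · exact hP.iu _ (hu a) _ (hu b)
  · exact hd a b
  · rw [← hB.symm, hd, apply_ite σ, map_one, map_zero]
  · exact hP.iw _ (hw a) _ (hw b)

/-- Isometries carrying pairs to pairs. -/
theorem Pair.exists_map (hB : IsHerm B) (hP : Pair B m U W) {U' W' : Submodule F V} (hP' : Pair B m U' W')
    (u u' : Fin m → V) (hu : ∀ i, u i ∈ U) (hi : LinearIndependent F u) (hu' : ∀ i, u' i ∈ U')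
    (hi' : LinearIndependent F u') :
    ∃ g : V ≃ₗ[F] V, (∀ x y, B (g x) (g y) = B x y) ∧ (∀ i, g (u i) = u' i) ∧
      U.map (g : V →ₗ[F] V) = U' ∧ W.map (g : V →ₗ[F] V) = W' := by
  obtain ⟨w, hw, hd, b, hb⟩ := hP.exists_dual hB u hu hi
  obtain ⟨w', hw', hd', b', hb'⟩ := hP'.exists_dual hB u' hu' hi'
  let g := b.equiv b' (Equiv.refl _)
  have hg : ∀ i, g (Sum.elim u w i) = Sum.elim u' w' i := fun i => by
    rw [← hb, ← hb']
    exact b.equiv_apply i b' (Equiv.refl _)
  have hsp : ∀ {X : Submodule F V} {v : Fin m → V}, (∀ i, v i ∈ X) → LinearIndependent F v → finrank F X = m →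
      Submodule.span F (Set.range v) = X := fun {X v} hv hvi hX => Submodule.eq_of_le_of_finrank_eq
    (Submodule.span_le.2 (by rintro _ ⟨i, rfl⟩; exact hv i)) (by rw [finrank_span_eq_card hvi, Fintype.card_fin, hX])
  have hind : ∀ {c : Basis (Fin m ⊕ Fin m) F V} {f f' : Fin m → V}, (∀ i, c i = Sum.elim f f' i) →
      LinearIndependent F f' := fun {c f f'} h => by
    have := c.linearIndependent.comp Sum.inr Sum.inr_injective
    simpa [Function.comp_def, h] using this
  refine ⟨g, isometry_of_basis b b' fun i j => by rw [hb, hb, hb', hb', gram hB hP hu hw hd, gram hB hP' hu' hw' hd'],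
    fun i => hg (Sum.inl i), ?_, ?_⟩
  · rw [← hsp hu hi hP.du, ← hsp hu' hi' hP'.du, Submodule.map_span, ← Set.range_comp]
    congr 2
    exact funext fun i => hg (Sum.inl i)
  · rw [← hsp hw (hind hb) hP.dw, ← hsp hw' (hind hb') hP'.dw, Submodule.map_span, ← Set.range_comp]
    congr 2
    exact funext fun i => hg (Sum.inr i)

theorem Pair.exists_basis (hP : Pair B m U W) : ∃ u : Fin m → V, (∀ i, u i ∈ U) ∧ LinearIndependent F u := by
  let b := Module.finBasisOfFinrankEq F U hP.du
  exact ⟨fun i => (b i).1, fun i => (b i).2, b.linearIndependent.map' U.subtype U.ker_subtype⟩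

/-- Stabiliser elements of given determinant. -/
theorem Pair.exists_det (hB : IsHerm B) (hP : Pair B m U W) (hm : 0 < m) {z : F} (hz : z ≠ 0) :
    ∃ g : V ≃ₗ[F] V, (∀ x y, B (g x) (g y) = B x y) ∧ U.map (g : V →ₗ[F] V) = U ∧ W.map (g : V →ₗ[F] V) = W ∧
      LinearMap.det (g : V →ₗ[F] V) = z / σ z := by
  classical
  obtain ⟨u, hu, hi⟩ := hP.exists_basis
  obtain ⟨w, hw, hd, b, hb⟩ := hP.exists_dual hB u hu hi
  let i₀ : Fin m := ⟨0, hm⟩
  have hσz : σ z ≠ 0 := (map_ne_zero σ).2 hz
  let c : Fin m ⊕ Fin m → F := Sum.elim (Function.update 1 i₀ z) (Function.update 1 i₀ (σ z)⁻¹)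
  have hdet : LinearMap.det (Matrix.toLin b b (Matrix.diagonal c)) = z / σ z := by
    rw [LinearMap.det_toLin, Matrix.det_diagonal, Fintype.prod_sum_type]
    simp [c, Finset.prod_update_of_mem, div_eq_mul_inv]
  let T := Matrix.toLin b b (Matrix.diagonal c)
  have hne : LinearMap.det T ≠ 0 := by rw [hdet]; exact div_ne_zero hz hσz
  have hT : ∀ i, T (b i) = c i • b i := fun i => by
    rw [Matrix.toLin_self, Finset.sum_eq_single i]
    · simp
    · intro j _ hj; simp [hj]
    · simp
  let g := LinearMap.equivOfDetNeZero T hne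
  have hgv : ∀ v, g v = T v := fun v => rfl
  have hiso : (B.compl₂ T).comp T = B := b.ext fun i => b.ext fun j => by
    rw [LinearMap.comp_apply, LinearMap.compl₂_apply, hT, hT]
    simp only [map_smulₛₗ, LinearMap.smul_apply, smul_eq_mul, RingHom.id_apply, hb, gram hB hP hu hw hd]
    rcases i with a | a <;> rcases j with a' | a' <;> simp only [Sum.elim_inl, Sum.elim_inr, mul_zero]
    · split_ifs with he
      · subst he
        by_cases ha : a = i₀
        · subst ha; simp [c, hσz]
        · simp [c, ha]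
      · ring
    · split_ifs with he
      · subst he
        by_cases ha : a' = i₀
        · subst ha; simp [c, hB.invol, hz]
        · simp [c, ha]
      · ring
  have hmap : ∀ {X : Submodule F V} {v : Fin m → V} {k : Fin m → F}, (∀ i, v i ∈ X) → LinearIndependent F v →
      finrank F X = m → (∀ i, T (v i) = k i • v i) → X.map (g : V →ₗ[F] V) = X := by
    intro X v k hv hvi hX hk
    refine Submodule.eq_of_le_of_finrank_eq ?_ (by rw [LinearEquiv.finrank_map_eq])
    rw [← Submodule.eq_of_le_of_finrank_eq (Submodule.span_le.2 (by rintro _ ⟨i, rfl⟩; exact hv i))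
      (show finrank F (Submodule.span F (Set.range v)) = finrank F X by
        rw [finrank_span_eq_card hvi, Fintype.card_fin, hX]), Submodule.map_span, Submodule.span_le]
    rintro _ ⟨_, ⟨i, rfl⟩, rfl⟩
    show g (v i) ∈ Submodule.span F (Set.range v)
    rw [hgv, hk]
    exact Submodule.smul_mem _ _ (Submodule.subset_span ⟨i, rfl⟩)
  refine ⟨g, fun x y => LinearMap.congr_fun (LinearMap.congr_fun hiso x) y, hmap hu hi hP.du (k := fun i => c (Sum.inl i))
    (fun i => by have := hT (Sum.inl i); rwa [hb] at this), hmap hw ?_ hP.dw (k := fun i => c (Sum.inr i))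
    (fun i => by have := hT (Sum.inr i); rwa [hb] at this), hdet⟩
  have := b.linearIndependent.comp Sum.inr Sum.inr_injective
  simpa [Function.comp_def, hb] using this

/-- The isometries fixing both subspaces. -/
def stab (B : V →ₛₗ[σ] V →ₗ[F] F) (U W : Submodule F V) : Subgroup (V ≃ₗ[F] V) where
  carrier := {g | (∀ x y, B (g x) (g y) = B x y) ∧ U.map (g : V →ₗ[F] V) = U ∧ W.map (g : V →ₗ[F] V) = W}
  mul_mem' {a b} ha hb := ⟨fun x y => by rw [LinearEquiv.mul_apply, LinearEquiv.mul_apply, ha.1, hb.1],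
    by show U.map ((a : V →ₗ[F] V).comp (b : V →ₗ[F] V)) = U; rw [Submodule.map_comp, hb.2.1, ha.2.1],
    by show W.map ((a : V →ₗ[F] V).comp (b : V →ₗ[F] V)) = W; rw [Submodule.map_comp, hb.2.2, ha.2.2]⟩
  one_mem' := ⟨fun _ _ => rfl, Submodule.map_id U, Submodule.map_id W⟩
  inv_mem' {a} ha := by
    refine ⟨fun x y => ?_, ?_, ?_⟩
    · conv_rhs => rw [← a.apply_symm_apply x, ← a.apply_symm_apply y, ha.1]
      rfl
    all_goals
      ext v
      constructor
      · rintro ⟨w, hw, rfl⟩
        first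
          | rw [← ha.2.1] at hw
          | rw [← ha.2.2] at hw
        obtain ⟨w', hw', rfl⟩ := hw
        show a.symm (a w') ∈ _
        rwa [LinearEquiv.symm_apply_apply]
      · intro hv
        refine ⟨a v, ?_, a.symm_apply_apply v⟩
        first
          | exact ha.2.1 ▸ Submodule.mem_map_of_mem hv
          | exact ha.2.2 ▸ Submodule.mem_map_of_mem hv

theorem Pair.card_stab [Fintype F] (hB : IsHerm B) (hP : Pair B m U W) :
    Nat.card (stab B U W) = ∏ i : Fin m, (Fintype.card F ^ m - Fintype.card F ^ (i : ℕ)) := by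
  classical
  haveI : Finite V := Module.finite_of_finite F
  obtain ⟨u, hu, hi⟩ := hP.exists_basis
  have hc := card_linearIndependent (K := F) (V := U) (k := m) hP.du.ge
  rw [hP.du] at hc
  rw [← hc]
  refine Nat.card_eq_of_bijective
    (fun g => (⟨fun i => ⟨g.1 (u i), (show g.1 (u i) ∈ U.map (g.1 : V →ₗ[F] V) from Submodule.mem_map_of_mem (hu i))
        |> fun h => g.2.2.1.le h⟩,
      LinearIndependent.of_comp U.subtype (hi.map' g.1.toLinearMap g.1.ker)⟩ :
      { s : Fin m → U // LinearIndependent F s })) ⟨fun g g' h => ?_, fun s => ?_⟩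
  · have he : ∀ i, g.1 (u i) = g'.1 (u i) := fun i => congrArg Subtype.val (congrFun (congrArg Subtype.val h) i)
    obtain ⟨w, hw, hd, b, hb⟩ := hP.exists_dual hB u hu hi
    obtain ⟨u', hu', hi', hue⟩ : ∃ u' : Fin m → V, (∀ i, u' i ∈ U) ∧ LinearIndependent F u' ∧ ∀ i, u' i = g.1 (u i) :=
      ⟨fun i => g.1 (u i), fun i => g.2.2.1.le (Submodule.mem_map_of_mem (hu i)), hi.map' g.1.toLinearMap g.1.ker,
        fun i => rfl⟩
    refine Subtype.ext (LinearEquiv.toLinearMap_injective (b.ext fun j => ?_))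
    rw [hb]
    rcases j with i | i
    · exact he i
    · have hgw : g.1 (w i) ∈ W := g.2.2.2.le (Submodule.mem_map_of_mem (hw i))
      have hgw' : g'.1 (w i) ∈ W := g'.2.2.2.le (Submodule.mem_map_of_mem (hw i))
      refine sub_eq_zero.1 (hP.sep hB (sub_mem hgw hgw') fun x hx => ?_)
      rw [← g.2.2.1] at hx
      obtain ⟨y, hy, rfl⟩ := hx
      have hy' : g'.1 y = g.1 y := by
        have hyu : y ∈ Submodule.span F (Set.range u) := by
          rw [Submodule.eq_of_le_of_finrank_eq (Submodule.span_le.2 (by rintro _ ⟨i, rfl⟩; exact hu i))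
            (show finrank F (Submodule.span F (Set.range u)) = finrank F U by
              rw [finrank_span_eq_card hi, Fintype.card_fin, hP.du])]
          exact hy
        clear hy
        induction hyu using Submodule.span_induction with
        | mem x hx => obtain ⟨k, rfl⟩ := hx; exact (he k).symm
        | zero => simp
        | add a c _ _ ha hc => simp [ha, hc]
        | smul k a _ ha => simp [ha]
      show B (g.1 y) (g.1 (w i) - g'.1 (w i)) = 0
      rw [map_sub, g.2.1, ← hy', g'.2.1, sub_self]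
  · obtain ⟨g, hg, hgu, hU, hW⟩ := hP.exists_map hB hP u (fun i => (s.1 i).1) hu hi (fun i => (s.1 i).2)
      (s.2.map' U.subtype U.ker_subtype)
    exact ⟨⟨g, hg, hU, hW⟩, Subtype.ext (funext fun i => Subtype.ext (hgu i))⟩

/-- The rank of `y - s` on one side is at most that on the other. -/
theorem Pair.rank_le (hB : IsHerm B) (hP : Pair B m U W) {y : V ≃ₗ[F] V} (hy : ∀ a b, B (y a) (y b) = B a b)
    (hU : U.map (y : V →ₗ[F] V) = U) (hW : W.map (y : V →ₗ[F] V) = W) {s : F} (hs : s * σ s = 1) :
    finrank F (W.map ((y : V →ₗ[F] V) - s • LinearMap.id)) ≤ finrank F (U.map ((y : V →ₗ[F] V) - s • LinearMap.id)) := by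
  set T := (y : V →ₗ[F] V) - s • LinearMap.id with hT
  let R := U.map T
  let b := Module.finBasis F R
  let S : W →ₗ[F] (Fin (finrank F R) → F) := LinearMap.pi fun i => (B (b i).1).comp W.subtype
  have hker : ∀ w : W, S w = 0 → T w.1 = 0 := by
    intro w hw
    have hy' : ∀ v, T v = y v - s • v := fun v => rfl
    have hTw : T w.1 ∈ W := sub_mem
      (hW.le (Submodule.mem_map_of_mem w.2)) (W.smul_mem _ w.2)
    refine hP.sep hB hTw fun u hu => ?_
    rw [← hU] at hu
    obtain ⟨v, hv, rfl⟩ := hu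
    have h0 : B (T v) w.1 = 0 := by
      have hvR : T v ∈ R := Submodule.mem_map_of_mem hv
      have hsum : (∑ i, b.repr ⟨T v, hvR⟩ i • ((b i).1 : V)) = T v :=
        ((map_sum R.subtype (fun i => b.repr ⟨T v, hvR⟩ i • b i) Finset.univ).trans
          (Finset.sum_congr rfl fun i _ => rfl)).symm.trans (congrArg R.subtype (b.sum_repr ⟨T v, hvR⟩))
      have hc : ∀ i, B (b i).1 w.1 = 0 := fun i => congrFun hw i
      rw [← hsum]
      simp [map_sum, hc]
    show B (y v) (T w.1) = 0
    rw [hy', map_sub, map_smul, hy, smul_eq_mul]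
    rw [hy', map_sub, LinearMap.sub_apply, map_smulₛₗ, LinearMap.smul_apply, smul_eq_mul] at h0
    linear_combination (-s) * h0 + -(B v w.1) * hs
  have h1 := LinearMap.finrank_range_add_finrank_ker S
  have h2 := LinearMap.finrank_range_add_finrank_ker (T.domRestrict W)
  have h3 : finrank F (LinearMap.ker S) ≤ finrank F (LinearMap.ker (T.domRestrict W)) :=
    Submodule.finrank_mono fun w hw => hker w hw
  have h4 : finrank F (LinearMap.range S) ≤ finrank F (U.map T) :=
    (Submodule.finrank_le _).trans (Module.finrank_fin_fun F).le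
  rw [LinearMap.range_domRestrict] at h2
  omega

/-- Parity. -/
theorem Pair.even_rank (hB : IsHerm B) (hP : Pair B m U W) {y : V ≃ₗ[F] V} (hy : ∀ a b, B (y a) (y b) = B a b)
    (hU : U.map (y : V →ₗ[F] V) = U) (hW : W.map (y : V →ₗ[F] V) = W) {s : F} (hs : s * σ s = 1) :
    Even (finrank F (LinearMap.range ((y : V →ₗ[F] V) - s • LinearMap.id))) := by
  set T := (y : V →ₗ[F] V) - s • LinearMap.id with hT
  have e1 : finrank F (U.map T) = finrank F (W.map T) :=
    le_antisymm (hP.symm.rank_le hB hy hW hU hs) (hP.rank_le hB hy hU hW hs)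
  have hle : ∀ {X : Submodule F V}, X.map (y : V →ₗ[F] V) = X → X.map T ≤ X := by
    rintro X hX _ ⟨v, hv, rfl⟩
    exact sub_mem (hX ▸ Submodule.mem_map_of_mem hv) (X.smul_mem _ hv)
  have h2 := Submodule.finrank_sup_add_finrank_inf_eq (U.map T) (W.map T)
  rw [show U.map T ⊓ W.map T = ⊥ from eq_bot_iff.2 ((inf_le_inf (hle hU) (hle hW)).trans hP.compl.inf_eq_bot.le),
    finrank_bot, ← Submodule.map_sup, hP.compl.sup_eq_top, Submodule.map_top, add_zero, e1] at h2
  exact ⟨_, h2⟩

end Cfsg.Agent.HermPair
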