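import Mathlib
import Cfsg.Agent.HermPair.Basic

/-!
Elements of prime order of unitary groups with prescribed rank of `x - 1`, and existence of invariant pairs.
-/

set_option autoImplicit false
set_option linter.unusedSectionVars false
set_option linter.style.haveILetI false

namespace Cfsg.Agent.HermPair

open Module Matrix Cfsg.Agent.Classical Cfsg.Agent.Classical.Herm

variable {F : Type*} [Field F] [Fintype F] {σ : F →+* F}

/-- The order of the unitary group. -/
def guOrder (q n : ℕ) : ℕ :=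
  ∏ j ∈ Finset.range n, if Even (n - j) then q ^ (n - j - 1) * (q ^ (n - j) - 1) else q ^ (n - j - 1) * (q ^ (n - j) + 1)

theorem card_GU_eq {q n : ℕ} (hσ : IsInvol σ) (hσq : ∀ x, σ x = x ^ q) (hq : Nat.card (fixField σ) = q) :
    Nat.card (Cfsg.GU n F q) = guOrder q n := by
  rw [card_GU hσ hσq, card_frames hσ hq n n le_rfl]
  exact Finset.prod_congr rfl fun j _ => card_herm_one hσ hq _

/-- The isometry group. -/
def isoG {V : Type*} [AddCommGroup V] [Module F V] (B : V →ₛₗ[σ] V →ₗ[F] F) : Subgroup (V ≃ₗ[F] V) where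
  carrier := {g | ∀ x y, B (g x) (g y) = B x y}
  mul_mem' {a b} ha hb := fun x y => by rw [LinearEquiv.mul_apply, LinearEquiv.mul_apply, ha, hb]
  one_mem' := fun _ _ => rfl
  inv_mem' {a} ha := fun x y => by
    conv_rhs => rw [← a.apply_symm_apply x, ← a.apply_symm_apply y, ha]
    rfl

/-- The matrix of a linear equivalence. -/
noncomputable def toGL {n : ℕ} : ((Fin n → F) ≃ₗ[F] (Fin n → F)) →* GL (Fin n) F where
  toFun e := ⟨LinearMap.toMatrix' e.toLinearMap, LinearMap.toMatrix' e.symm.toLinearMap,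
    by rw [← LinearMap.toMatrix'_comp]; simp, by rw [← LinearMap.toMatrix'_comp]; simp⟩
  map_one' := Units.ext LinearMap.toMatrix'_id
  map_mul' a b := Units.ext (LinearMap.toMatrix'_comp a.toLinearMap b.toLinearMap)

theorem toGL_mulVec {n : ℕ} (e : (Fin n → F) ≃ₗ[F] (Fin n → F)) (v : Fin n → F) : (toGL e).1 *ᵥ v = e v :=
  LinearMap.toMatrix'_mulVec _ _

theorem toGL_injective {n : ℕ} : Function.Injective (toGL (F := F) (n := n)) := fun a b h =>
  LinearEquiv.ext fun v => by rw [← toGL_mulVec, h, toGL_mulVec]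

theorem toLin'_toGL {n : ℕ} (e : (Fin n → F) ≃ₗ[F] (Fin n → F)) :
    Matrix.toLin' (toGL e).1 = e.toLinearMap := LinearMap.ext fun v => by
  rw [Matrix.toLin'_apply, toGL_mulVec]; rfl

theorem exists_equiv {n : ℕ} (g : GL (Fin n) F) : ∃ e, toGL e = g := by
  let e : (Fin n → F) ≃ₗ[F] (Fin n → F) :=
    LinearEquiv.ofLinear (Matrix.toLin' g.1) (Matrix.toLin' (g⁻¹).1)
      (by rw [← Matrix.toLin'_mul, ← Units.val_mul, mul_inv_cancel, Units.val_one, Matrix.toLin'_one])
      (by rw [← Matrix.toLin'_mul, ← Units.val_mul, inv_mul_cancel, Units.val_one, Matrix.toLin'_one])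
  exact ⟨e, Units.ext (LinearMap.toMatrix'_toLin' g.1)⟩

theorem mem_GU {n q : ℕ} (hσq : ∀ x, σ x = x ^ q) (e : (Fin n → F) ≃ₗ[F] (Fin n → F)) :
    toGL e ∈ Cfsg.GU n F q ↔ e ∈ isoG (hermB n σ) := by
  rw [mem_GU_iff hσq]
  simp only [toGL_mulVec]
  rfl

theorem det_toGL {n : ℕ} (e : (Fin n → F) ≃ₗ[F] (Fin n → F)) :
    (toGL e).1.det = LinearMap.det (e : (Fin n → F) →ₗ[F] (Fin n → F)) := by
  rw [← LinearMap.det_toLin', toLin'_toGL]

theorem norm_det {n q : ℕ} (hσq : ∀ x, σ x = x ^ q) {e : (Fin n → F) ≃ₗ[F] (Fin n → F)} (he : e ∈ isoG (hermB n σ)) :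
    LinearMap.det (e : (Fin n → F) →ₗ[F] (Fin n → F)) * σ (LinearMap.det (e : (Fin n → F) →ₗ[F] (Fin n → F))) = 1 := by
  rw [← det_toGL]
  exact det_norm_GU hσq ((mem_GU hσq e).2 he)

theorem card_isoG {n q : ℕ} (hσ : IsInvol σ) (hσq : ∀ x, σ x = x ^ q) (hq : Nat.card (fixField σ) = q) :
    Nat.card (isoG (hermB n σ)) = guOrder q n := by
  rw [← card_GU_eq hσ hσq hq, ← Subgroup.card_map_of_injective (K := isoG (hermB n σ)) toGL_injective]
  congr 2
  ext g
  obtain ⟨e, rfl⟩ := exists_equiv g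
  rw [mem_GU hσq, Subgroup.mem_map_iff_mem toGL_injective]

theorem orderOf_dvd_of_space {V : Type*} [AddCommGroup V] [Module F V] [FiniteDimensional F V] {q : ℕ}
    (hσ : IsInvol σ) (hσq : ∀ x, σ x = x ^ q) (hq : Nat.card (fixField σ) = q) {B : V →ₛₗ[σ] V →ₗ[F] F}
    (hB : IsHerm B) (g : V ≃ₗ[F] V) (hg : ∀ x y, B (g x) (g y) = B x y) :
    orderOf g ∣ guOrder q (finrank F V) := by
  classical
  obtain ⟨b, hb⟩ := exists_orthonormal hB
  set φ := b.equivFun
  have hφ : ∀ u v, hermB _ σ (φ u) (φ v) = B u v := fun u v => by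
    have e : ∀ f g : Fin (finrank F V) → F, B (∑ i, f i • b i) (∑ i, g i • b i) = ∑ i, σ (f i) * g i := fun f g => by
      simp [map_sum, hb _ _, mul_comm]
    have := e (φ u) (φ v)
    rw [b.sum_equivFun, b.sum_equivFun] at this
    rw [hermB_apply, this]
  let Φ : (V ≃ₗ[F] V) →* ((Fin (finrank F V) → F) ≃ₗ[F] (Fin (finrank F V) → F)) :=
    { toFun := fun h => (φ.symm.trans h).trans φ
      map_one' := LinearEquiv.ext fun v => by simp
      map_mul' := fun a c => LinearEquiv.ext fun v => by simp [LinearEquiv.mul_apply] }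
  have hΦ : Function.Injective Φ := fun a c h => LinearEquiv.ext fun v => by
    have := LinearEquiv.congr_fun h (φ v)
    simpa [Φ] using this
  have hmem : Φ g ∈ isoG (hermB (finrank F V) σ) := fun u v => by
    obtain ⟨u, rfl⟩ := φ.surjective u
    obtain ⟨v, rfl⟩ := φ.surjective v
    simp [Φ, hφ, hg]
  rw [← card_isoG hσ hσq hq, ← orderOf_injective Φ hΦ g, ← Subgroup.orderOf_mk _ hmem]
  exact orderOf_dvd_natCard _

/-- The rank of `g - 1`: an element of order `r` lives in a smaller unitary group. -/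
theorem order_dvd_rank {n q : ℕ} (hσ : IsInvol σ) (hσq : ∀ x, σ x = x ^ q) (hq : Nat.card (fixField σ) = q) {r : ℕ}
    (hr : (r : F) ≠ 0) (hrp : r.Prime) {g : (Fin n → F) ≃ₗ[F] (Fin n → F)} (hg : g ∈ isoG (hermB n σ))
    (hgr : g ^ r = 1) (hg1 : g ≠ 1) :
    r ∣ guOrder q (finrank F (LinearMap.range (g.toLinearMap - LinearMap.id))) := by
  set T := g.toLinearMap - LinearMap.id with hT
  have hTv : ∀ v, T v = g v - v := fun v => rfl
  have hn : ∀ (i : ℕ) w, g (T w) = T w → (g ^ i) w = w + i • T w := by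
    intro i
    induction i with
    | zero => intro w _; simp
    | succ i ih =>
      intro w h
      rw [pow_succ', LinearEquiv.mul_apply, ih w h, map_add, map_nsmul, h, succ_nsmul', hTv]
      abel
  have hdis : Disjoint (LinearMap.range T) (LinearMap.ker T) := by
    rw [Submodule.disjoint_def]
    rintro _ ⟨w, rfl⟩ hk
    have hk' : g (T w) = T w := sub_eq_zero.1 hk
    have h := hn r w hk'
    rw [hgr, ← Nat.cast_smul_eq_nsmul F] at h
    exact (smul_eq_zero.1 (add_eq_left.1 h.symm)).resolve_left hr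
  have hperp : ∀ a ∈ LinearMap.range T, ∀ k ∈ LinearMap.ker T, hermB n σ a k = 0 := by
    rintro _ ⟨w, rfl⟩ k hk
    have hk' : g k = k := sub_eq_zero.1 hk
    rw [hTv, map_sub, LinearMap.sub_apply, sub_eq_zero]
    conv_lhs => rw [← hk']
    exact hg w k
  have hsup : LinearMap.range T ⊔ LinearMap.ker T = ⊤ := by
    refine Submodule.eq_top_of_finrank_eq ?_
    have h1 := Submodule.finrank_sup_add_finrank_inf_eq (LinearMap.range T) (LinearMap.ker T)
    rw [hdis.eq_bot, finrank_bot, add_zero, LinearMap.finrank_range_add_finrank_ker] at h1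
    exact h1
  let R := LinearMap.range T
  have hRg : ∀ v ∈ R, g v ∈ R := by
    rintro _ ⟨w, rfl⟩
    exact ⟨g w, by rw [hTv, hTv, map_sub]⟩
  let B' : R →ₛₗ[σ] R →ₗ[F] F := LinearMap.mk₂'ₛₗ σ (RingHom.id F) (fun a b => hermB n σ a.1 b.1)
    (fun a a' b => by simp) (fun c a b => by simp) (fun a b b' => by simp) (fun c a b => by simp)
  have hB' : IsHerm B' :=
    { toIsInvol := hσ
      symm := fun a b => (hermB_isHerm hσ n).symm a.1 b.1
      nondeg := fun a ha => Subtype.ext ((hermB_isHerm hσ n).nondeg a.1 fun y => by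
        obtain ⟨b, hb, k, hk, rfl⟩ := Submodule.mem_sup.1 (show y ∈ R ⊔ LinearMap.ker T by rw [hsup]; trivial)
        rw [map_add, hperp a.1 a.2 k hk, add_zero]
        exact ha ⟨b, hb⟩) }
  let gR : R ≃ₗ[F] R := LinearEquiv.ofBijective (g.toLinearMap.restrict hRg)
    (by
      have hi : Function.Injective (g.toLinearMap.restrict hRg) := fun a b h =>
        Subtype.ext (g.injective (congrArg Subtype.val h))
      exact ⟨hi, LinearMap.injective_iff_surjective.1 hi⟩)
  have hgR : ∀ v : R, (gR v).1 = g v.1 := fun v => rfl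
  have hp : ∀ (i : ℕ) (v : R), ((gR ^ i) v).1 = (g ^ i) v.1 := by
    intro i
    induction i with
    | zero => intro v; rfl
    | succ i ih => intro v; rw [pow_succ', pow_succ', LinearEquiv.mul_apply, hgR, ih]; rfl
  haveI : Fact r.Prime := ⟨hrp⟩
  have ho : orderOf gR = r := by
    refine orderOf_eq_prime (LinearEquiv.ext fun v => Subtype.ext (by rw [hp, hgr]; rfl)) fun e => hg1 ?_
    refine LinearEquiv.ext fun v => ?_
    obtain ⟨b, hb, k, hk, rfl⟩ := Submodule.mem_sup.1 (show v ∈ R ⊔ LinearMap.ker T by rw [hsup]; trivial)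
    have h1 : g b = b := by
      have := congrArg Subtype.val (LinearEquiv.congr_fun e ⟨b, hb⟩)
      exact this
    rw [map_add, h1, show g k = k from sub_eq_zero.1 hk]
    rfl
  exact ho ▸ orderOf_dvd_of_space hσ hσq hq hB' gR fun a b => hg a.1 b.1

/-- Block sums. -/
noncomputable def splitF (e k : ℕ) (F : Type*) [Field F] : (Fin (e + k) → F) ≃ₗ[F] (Fin e → F) × (Fin k → F) where
  toFun v := (fun i => v (Fin.castAdd k i), fun i => v (Fin.natAdd e i))
  invFun w := Fin.append w.1 w.2
  map_add' _ _ := rfl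
  map_smul' _ _ := rfl
  left_inv v := by funext i; refine Fin.addCases (fun i => ?_) (fun i => ?_) i <;> simp
  right_inv w := by refine Prod.ext (funext fun i => ?_) (funext fun i => ?_) <;> simp

theorem exists_extendIso {e k r : ℕ} {g : (Fin e → F) ≃ₗ[F] (Fin e → F)} (hg : g ∈ isoG (hermB e σ))
    (hgr : g ^ r = 1) :
    ∃ x : (Fin (e + k) → F) ≃ₗ[F] (Fin (e + k) → F), x ∈ isoG (hermB (e + k) σ) ∧ x ^ r = 1 ∧
      LinearMap.det (x : (Fin (e + k) → F) →ₗ[F] (Fin (e + k) → F)) = LinearMap.det (g : (Fin e → F) →ₗ[F] (Fin e → F)) ∧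
      finrank F (LinearMap.range (x.toLinearMap - LinearMap.id)) = finrank F (LinearMap.range (g.toLinearMap - LinearMap.id)) := by
  let ψ := splitF e k F
  let x := (ψ.trans (g.prodCongr (LinearEquiv.refl F (Fin k → F)))).trans ψ.symm
  have hx : ∀ v, ψ (x v) = (g (ψ v).1, (ψ v).2) := fun v => by simp [x]
  have hxn : ∀ (i : ℕ) v, ψ ((x ^ i) v) = ((g ^ i) (ψ v).1, (ψ v).2) := by
    intro i
    induction i with
    | zero => intro v; rfl
    | succ i ih => intro v; rw [pow_succ', LinearEquiv.mul_apply, hx, ih, pow_succ', LinearEquiv.mul_apply]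
  have hsplit : ∀ u v, hermB (e + k) σ u v = hermB e σ (ψ u).1 (ψ v).1 + hermB k σ (ψ u).2 (ψ v).2 := fun u v => by
    rw [hermB_apply, hermB_apply, hermB_apply, Fin.sum_univ_add]
    rfl
  refine ⟨x, fun u v => by rw [hsplit, hsplit u v, hx, hx, hg], LinearEquiv.ext fun v => ψ.injective
    (by rw [hxn, hgr]; rfl), ?_, ?_⟩
  · have hc := LinearMap.det_conj (((g : (Fin e → F) →ₗ[F] (Fin e → F)).prodMap (LinearMap.id : (Fin k → F) →ₗ[F] _))) ψ.symm
    rw [LinearMap.det_prodMap, LinearMap.det_id, mul_one] at hc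
    rw [← hc]
    rfl
  · have hR : LinearMap.range (x.toLinearMap - LinearMap.id) =
        (LinearMap.range (g.toLinearMap - LinearMap.id)).map (ψ.symm.toLinearMap.comp (LinearMap.inl F _ _)) := by
      refine le_antisymm ?_ ?_
      · rintro _ ⟨v, rfl⟩
        exact ⟨g (ψ v).1 - (ψ v).1, ⟨(ψ v).1, rfl⟩, ψ.injective (by refine Prod.ext ?_ ?_ <;> simp [hx])⟩
      · rintro _ ⟨_, ⟨w, rfl⟩, rfl⟩
        exact ⟨ψ.symm (w, 0), ψ.injective (by simp [hx])⟩
    rw [hR]
    exact ((LinearMap.range (g.toLinearMap - LinearMap.id)).equivMapOfInjective _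
      fun a b hab => by simpa using congrArg (fun w => (ψ w).1) hab).finrank_eq.symm

/-- A diagonal isometry. -/
theorem exists_diag {n : ℕ} (w : Fin n → F) (hw : ∀ i, w i * σ (w i) = 1) :
    ∃ x : (Fin n → F) ≃ₗ[F] (Fin n → F), x ∈ isoG (hermB n σ) ∧ (∀ v i, x v i = w i * v i) ∧
      LinearMap.det (x : (Fin n → F) →ₗ[F] (Fin n → F)) = ∏ i, w i := by
  classical
  have hne : ∀ i, w i ≠ 0 := fun i e => by have := hw i; rw [e, zero_mul] at this; exact zero_ne_one this
  let x : (Fin n → F) ≃ₗ[F] (Fin n → F) := LinearEquiv.piCongrRight fun i => LinearEquiv.smulOfUnit (Units.mk0 _ (hne i))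
  have hx : ∀ v i, x v i = w i * v i := fun v i => rfl
  refine ⟨x, fun u v => ?_, hx, ?_⟩
  · rw [hermB_apply, hermB_apply]
    refine Finset.sum_congr rfl fun i _ => ?_
    rw [hx, hx, map_mul]
    linear_combination σ (u i) * v i * hw i
  · have e : (x : (Fin n → F) →ₗ[F] (Fin n → F)) = Matrix.toLin' (Matrix.diagonal w) := LinearMap.ext fun v => funext fun i => by
      rw [Matrix.toLin'_apply, Matrix.mulVec_diagonal]; exact hx v i
    rw [e, LinearMap.det_toLin', Matrix.det_diagonal]

theorem rank_diag {n : ℕ} {w : Fin n → F} {x : (Fin n → F) ≃ₗ[F] (Fin n → F)} (hx : ∀ v i, x v i = w i * v i) (s : F)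
    [DecidableEq F] :
    finrank F (LinearMap.range ((x : (Fin n → F) →ₗ[F] (Fin n → F)) - s • LinearMap.id)) =
      Fintype.card {i : Fin n // w i - s ≠ 0} := by
  have e : (x : (Fin n → F) →ₗ[F] (Fin n → F)) - s • LinearMap.id = (Matrix.diagonal fun i => w i - s).mulVecLin :=
    LinearMap.ext fun v => funext fun i => by
      rw [Matrix.mulVecLin_apply, Matrix.mulVec_diagonal]
      simp [hx]
      ring
  rw [e]
  exact Matrix.rank_diagonal _

/-- An isotropic vector. -/
theorem exists_isotropic (hσ : IsInvol σ) {n : ℕ} (hn : 2 ≤ n) : ∃ u : Fin n → F, u ≠ 0 ∧ hermB n σ u u = 0 := by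
  obtain ⟨c, hc⟩ := exists_norm hσ (a := (-1 : F)) (by rw [map_neg, map_one])
  let a : Fin n → Fin n → F := fun i => Pi.single i 1
  let i0 : Fin n := ⟨0, by omega⟩
  let i1 : Fin n := ⟨1, by omega⟩
  refine ⟨a i0 + c • a i1, fun h => ?_, ?_⟩
  · have := congrFun h i0
    simp [a, i0, i1] at this
  · have h : ∀ i j, hermB n σ (a i) (a j) = if i = j then 1 else 0 := isON_single n
    simp only [map_add, map_smulₛₗ, LinearMap.add_apply, LinearMap.smul_apply, smul_eq_mul, RingHom.id_apply, h]
    simp [i0, i1]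
    linear_combination hc

/-- A unitary transvection. -/
theorem exists_transvection {p : ℕ} [Fact p.Prime] [CharP F p] (hσ : IsInvol σ) {n : ℕ} (hn : 2 ≤ n) :
    ∃ x : (Fin n → F) ≃ₗ[F] (Fin n → F), x ∈ isoG (hermB n σ) ∧ x ^ p = 1 ∧
      LinearMap.det (x : (Fin n → F) →ₗ[F] (Fin n → F)) = 1 ∧
      finrank F (LinearMap.range (x.toLinearMap - LinearMap.id)) = 1 := by
  obtain ⟨u, hu, huu⟩ := exists_isotropic hσ hn
  obtain ⟨k, hk0, hk⟩ := exists_skew hσ
  have hB := hermB_isHerm hσ n
  let N : Module.End F (Fin n → F) := (k • hermB n σ u).smulRight u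
  let x : (Fin n → F) ≃ₗ[F] (Fin n → F) := LinearEquiv.ofLinear (LinearMap.id + N) (LinearMap.id - N)
    (LinearMap.ext fun v => by simp [N, huu]) (LinearMap.ext fun v => by simp [N, huu])
  have hx : ∀ v, x v = v + (k * hermB n σ u v) • u := fun v => rfl
  have hxn : ∀ (i : ℕ) v, (x ^ i) v = v + ((i : F) * (k * hermB n σ u v)) • u := by
    intro i
    induction i with
    | zero => intro v; simp
    | succ i ih =>
      intro v
      rw [pow_succ', LinearEquiv.mul_apply, ih, hx, map_add, map_smul, huu, smul_zero, add_zero, add_assoc, ← add_smul,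
        Nat.cast_succ, add_mul, one_mul]
  have hxp : x ^ p = 1 := LinearEquiv.ext fun v => by
    rw [hxn, CharP.cast_eq_zero F p, zero_mul, zero_smul, add_zero]
    rfl
  refine ⟨x, fun a b => ?_, hxp, ?_, ?_⟩
  · rw [hx, hx]
    simp only [map_add, map_smulₛₗ, LinearMap.add_apply, LinearMap.smul_apply, smul_eq_mul, RingHom.id_apply, huu,
      map_mul, hk, hB.symm u a]
    ring
  · have h1 : LinearMap.det (x : (Fin n → F) →ₗ[F] (Fin n → F)) ^ p = 1 := by
      have h2 : (x.toLinearMap) ^ p = 1 := by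
        refine LinearMap.ext fun v => ?_
        rw [Module.End.pow_apply]
        have h3 : ∀ i, x.toLinearMap^[i] v = (x ^ i) v := by
          intro i
          induction i with
          | zero => rfl
          | succ i ih => rw [Function.iterate_succ_apply', ih, pow_succ', LinearEquiv.mul_apply]; rfl
        rw [h3, hxp]
        rfl
      rw [← map_pow, h2, map_one]
    exact frobenius_inj F p (by rw [frobenius_def, frobenius_def, h1, one_pow])
  · have e : x.toLinearMap - LinearMap.id = N := LinearMap.ext fun v => by simp [hx, N]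
    rw [e]
    refine le_antisymm ((Submodule.finrank_mono ?_).trans (finrank_span_singleton hu).le) (Nat.pos_of_ne_zero fun h0 => ?_)
    · rintro _ ⟨v, rfl⟩
      exact Submodule.mem_span_singleton.2 ⟨_, rfl⟩
    · have hN := LinearMap.range_eq_bot.1 (Submodule.finrank_eq_zero.1 h0)
      refine hu (hB.nondeg u fun v => ?_)
      have := LinearMap.congr_fun hN v
      simpa [N, hu, hk0] using this

/-- A pair in a space of even dimension. -/
theorem exists_pair_of_even {V : Type*} [AddCommGroup V] [Module F V] [FiniteDimensional F V]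
    {B : V →ₛₗ[σ] V →ₗ[F] F} (hB : IsHerm B) (h2 : (2 : F) ≠ 0) {a : ℕ} (ha : finrank F V = a + a) :
    ∃ U W, Pair B a U W := by
  classical
  obtain ⟨b, hb⟩ := exists_orthonormal hB
  let e : Fin a ⊕ Fin a ≃ Fin (finrank F V) := finSumFinEquiv.trans (finCongr ha.symm)
  obtain ⟨c, hc⟩ := exists_norm hB.toIsInvol (a := (-1 : F)) (by rw [map_neg, map_one])
  have hc0 : c ≠ 0 := fun h => by rw [h, zero_mul] at hc; exact one_ne_zero (neg_eq_zero.1 hc.symm)
  let u : F → Fin a → V := fun t i => b (e (Sum.inl i)) + t • b (e (Sum.inr i))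
  have hu : ∀ t t' i j, B (u t i) (u t' j) = if i = j then 1 + σ t * t' else 0 := fun t t' i j => by
    simp only [u, map_add, map_smulₛₗ, LinearMap.add_apply, LinearMap.smul_apply, smul_eq_mul, RingHom.id_apply,
      hb _ _, e.injective.eq_iff, Sum.inl.injEq, Sum.inr.injEq, reduceCtorEq, if_false]
    split_ifs <;> ring
  have hiso : ∀ t, t * σ t = -1 → ∀ x ∈ Submodule.span F (Set.range (u t)), ∀ y ∈ Submodule.span F (Set.range (u t)),
      B x y = 0 := by
    intro t ht x hx y hy
    obtain ⟨f, rfl⟩ := (Submodule.mem_span_range_iff_exists_fun F).1 hx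
    obtain ⟨g, rfl⟩ := (Submodule.mem_span_range_iff_exists_fun F).1 hy
    have h0 : 1 + σ t * t = 0 := by linear_combination ht
    simp [map_sum, hu, h0]
  have hli : LinearIndependent F (Sum.elim (u c) (u (-c))) := by
    rw [Fintype.linearIndependent_iff]
    intro g hg
    rw [Fintype.sum_sum_type] at hg
    simp only [Sum.elim_inl, Sum.elim_inr] at hg
    have h0 : 1 + σ c * c = 0 := by linear_combination hc
    have h0' : 1 + σ (-c) * -c = 0 := by rw [map_neg]; linear_combination hc
    have h3 : 1 + σ c * -c = 2 := by linear_combination -hc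
    have h3' : 1 + σ (-c) * c = 2 := by rw [map_neg]; linear_combination -hc
    rintro (i | i)
    · have := congrArg (B (u (-c) i)) hg
      simp only [map_sum, map_smul, hu, smul_eq_mul, mul_ite, mul_zero, Finset.sum_ite_eq, Finset.mem_univ, if_true,
        map_add, map_zero, h0', h3', add_zero] at this
      exact (mul_eq_zero.1 this).resolve_right h2
    · have := congrArg (B (u c i)) hg
      simp only [map_sum, map_smul, hu, smul_eq_mul, mul_ite, mul_zero, Finset.sum_ite_eq, Finset.mem_univ, if_true,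
        map_add, map_zero, h0, h3, zero_add] at this
      exact (mul_eq_zero.1 this).resolve_right h2
  have hu1 : LinearIndependent F (u c) := by simpa [Function.comp_def] using hli.comp Sum.inl Sum.inl_injective
  have hu2 : LinearIndependent F (u (-c)) := by simpa [Function.comp_def] using hli.comp Sum.inr Sum.inr_injective
  refine ⟨_, _, hiso c hc, hiso (-c) (by rw [map_neg]; linear_combination hc), ?_, ?_, ?_⟩
  · refine ⟨?_, ?_⟩
    · have := (linearIndependent_sum.1 hli).2.2
      simpa [Function.comp_def] using this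
    · rw [codisjoint_iff, ← Submodule.span_union, ← Set.Sum.elim_range]
      exact hli.span_eq_top_of_card_eq_finrank' (by rw [Fintype.card_sum, Fintype.card_fin, ha])
  · rw [finrank_span_eq_card hu1, Fintype.card_fin]
  · rw [finrank_span_eq_card hu2, Fintype.card_fin]

end Cfsg.Agent.HermPair
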