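import Mathlib
import Cfsg.Agent.HermPair.Elem

/-!
Involutions modulo scalars of even dimensional unitary groups: invariant pairs; arithmetic of the group order.
-/

set_option autoImplicit false
set_option linter.unusedSectionVars false
set_option linter.style.haveILetI false

namespace Cfsg.Agent.HermPair

open Module Cfsg.Agent.Classical Cfsg.Agent.Classical.Herm

variable {F V : Type*} [Field F] [Fintype F] [AddCommGroup V] [Module F V] [FiniteDimensional F V] {σ : F →+* F}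
  {B : V →ₛₗ[σ] V →ₗ[F] F}

/-- Complementary totally isotropic subspaces: dimension comparison. -/
theorem finrank_le_of_iso (hB : IsHerm B) {U W : Submodule F V} (hW : ∀ a ∈ W, ∀ b ∈ W, B a b = 0)
    (hc : IsCompl U W) : finrank F W ≤ finrank F U := by
  let b := Module.finBasis F U
  let S : W →ₗ[F] (Fin (finrank F U) → F) := LinearMap.pi fun i => (B (b i).1).comp W.subtype
  have hS : Function.Injective S := (injective_iff_map_eq_zero S).2 fun w hw => by
    refine Subtype.ext (hB.nondeg w.1 fun y => (eq_zero_comm hB).1 ?_)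
    obtain ⟨u, hu, w', hw', rfl⟩ := Submodule.mem_sup.1 (show y ∈ U ⊔ W by rw [hc.sup_eq_top]; trivial)
    have hu0 : B u w.1 = 0 := by
      have hs : (∑ i, b.repr ⟨u, hu⟩ i • ((b i).1 : V)) = u :=
        ((map_sum U.subtype (fun i => b.repr ⟨u, hu⟩ i • b i) Finset.univ).trans
          (Finset.sum_congr rfl fun i _ => rfl)).symm.trans (congrArg U.subtype (b.sum_repr ⟨u, hu⟩))
      have hc' : ∀ i, B (b i).1 w.1 = 0 := fun i => congrFun hw i
      rw [← hs]
      simp [map_sum, hc']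
    rw [map_add, LinearMap.add_apply, hu0, hW w' hw' w.1 w.2, add_zero]
  exact (LinearMap.finrank_le_finrank_of_injective hS).trans (Module.finrank_fin_fun F).le

/-- An isometry with scalar square fixes a pair when the determinant condition holds. -/
theorem exists_fixed_pair (hB : IsHerm B) (h2 : (2 : F) ≠ 0) {m : ℕ} (hV : finrank F V = m + m) {e : V ≃ₗ[F] V}
    (he : ∀ x y, B (e x) (e y) = B x y) {s : F} (hs0 : s ≠ 0) (hs : ∀ v, e (e v) = (s * s) • v)
    (hN : s * σ s = 1 ∨ s * σ s = -1)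
    (hd : s * σ s = 1 → s ^ (m + m) ≠ -1) (hdet : LinearMap.det (e : V →ₗ[F] V) = 1) :
    ∃ U W, Pair B m U W ∧ U.map (e : V →ₗ[F] V) = U ∧ W.map (e : V →ₗ[F] V) = W := by
  let E : F → Submodule F V := fun t => LinearMap.ker ((e : V →ₗ[F] V) - t • LinearMap.id)
  have hE : ∀ t v, v ∈ E t ↔ e v = t • v := fun t v => sub_eq_zero
  have h2s : s + s ≠ 0 := by rw [← two_mul]; exact mul_ne_zero h2 hs0
  have hc : IsCompl (E s) (E (-s)) := by
    refine ⟨?_, ?_⟩
    · rw [Submodule.disjoint_def]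
      intro v h1 h3
      rw [hE] at h1 h3
      rw [h1, neg_smul, eq_neg_iff_add_eq_zero, ← add_smul] at h3
      exact (smul_eq_zero.1 h3).resolve_left h2s
    · rw [codisjoint_iff, eq_top_iff]
      intro v _
      have e1 : v = (s + s)⁻¹ • (e v + s • v) + -((s + s)⁻¹ • (e v - s • v)) := by
        rw [← sub_eq_add_neg, ← smul_sub, add_sub_sub_cancel, ← add_smul, smul_smul, inv_mul_cancel₀ h2s, one_smul]
      rw [e1]
      refine Submodule.add_mem_sup (Submodule.smul_mem _ _ ((hE _ _).2 ?_)) (neg_mem (Submodule.smul_mem _ _ ((hE _ _).2 ?_)))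
      · rw [map_add, map_smul, hs, smul_add, smul_smul, add_comm]
      · rw [map_sub, map_smul, hs, smul_sub, neg_smul, neg_smul, smul_smul]
        abel
  have hfix : ∀ (X : Submodule F V), (∀ v ∈ X, e v ∈ X) → X.map (e : V →ₗ[F] V) = X := fun X hX =>
    Submodule.eq_of_le_of_finrank_eq (by rintro _ ⟨v, hv, rfl⟩; exact hX v hv) (by rw [LinearEquiv.finrank_map_eq])
  have hEfix : ∀ t (v : V), v ∈ E t → e v ∈ E t := fun t v hv => by
    rw [(hE t v).1 hv]; exact Submodule.smul_mem _ _ hv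
  have hdim : finrank F (E s) + finrank F (E (-s)) = m + m := by
    rw [Submodule.finrank_add_eq_of_isCompl hc, hV]
  rcases hN with hN | hN
  · -- nondegenerate eigenspaces
    have horth : ∀ a ∈ E s, ∀ b ∈ E (-s), B a b = 0 := by
      intro a ha b hb
      have := he a b
      rw [(hE _ _).1 ha, (hE _ _).1 hb] at this
      simp only [map_smulₛₗ, LinearMap.smul_apply, RingHom.id_apply, smul_eq_mul] at this
      have h3 : (2 : F) * B a b = 0 := by linear_combination -this - (B a b) * hN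
      exact (mul_eq_zero.1 h3).resolve_left h2
    have hd1 : LinearMap.det (e : V →ₗ[F] V) = s ^ finrank F (E s) * (-s) ^ finrank F (E (-s)) := by
      let P := Submodule.prodEquivOfIsCompl _ _ hc
      have hconj : (e : V →ₗ[F] V) = ((P : (E s × E (-s)) →ₗ[F] V).comp
          ((s • (LinearMap.id : E s →ₗ[F] E s)).prodMap ((-s) • (LinearMap.id : E (-s) →ₗ[F] E (-s))))).comp
          (P.symm : V →ₗ[F] E s × E (-s)) := by
        refine LinearMap.ext fun v => ?_
        obtain ⟨⟨a, b⟩, rfl⟩ := P.surjective v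
        simp [P, (hE _ _).1 a.2, (hE _ _).1 b.2]
      rw [hconj, LinearMap.comp_assoc, LinearMap.det_conj, LinearMap.det_prodMap, LinearMap.det_smul, LinearMap.det_smul,
        LinearMap.det_id, LinearMap.det_id, mul_one, mul_one]
    have heven : Even (finrank F (E (-s))) := by
      rcases Nat.even_or_odd (finrank F (E (-s))) with h | h
      · exact h
      · exfalso
        rw [hd1, h.neg_pow, mul_neg, ← pow_add, hdim] at hdet
        exact hd hN (by linear_combination -hdet)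
    have heven' : Even (finrank F (E s)) := (Nat.even_add.1 (hdim ▸ Even.add_self m)).2 heven
    have hsub : ∀ (X Y : Submodule F V), X ⊔ Y = ⊤ → (∀ a ∈ X, ∀ b ∈ Y, B a b = 0) → ∀ a, finrank F X = a + a →
        ∃ U W : Submodule F V, U ≤ X ∧ W ≤ X ∧ X ≤ U ⊔ W ∧ (∀ u ∈ U, ∀ v ∈ U, B u v = 0) ∧
          (∀ u ∈ W, ∀ v ∈ W, B u v = 0) ∧ finrank F U = a ∧ finrank F W = a := by
      intro X Y hXY hperp a ha
      let B' : X →ₛₗ[σ] X →ₗ[F] F := LinearMap.mk₂'ₛₗ σ (RingHom.id F) (fun u v => B u.1 v.1)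
        (fun u u' v => by simp) (fun c u v => by simp) (fun u v v' => by simp) (fun c u v => by simp)
      have hB' : IsHerm B' :=
        { toIsInvol := hB.toIsInvol
          symm := fun u v => hB.symm u.1 v.1
          nondeg := fun u hu => Subtype.ext (hB.nondeg u.1 fun y => by
            obtain ⟨x, hx, k, hk, rfl⟩ := Submodule.mem_sup.1 (show y ∈ X ⊔ Y by rw [hXY]; trivial)
            rw [map_add, hperp u.1 u.2 k hk, add_zero]
            exact hu ⟨x, hx⟩) }
      obtain ⟨U, W, hP⟩ := exists_pair_of_even hB' h2 ha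
      refine ⟨U.map X.subtype, W.map X.subtype, Submodule.map_subtype_le _ _, Submodule.map_subtype_le _ _, ?_, ?_, ?_,
        by rw [Submodule.finrank_map_subtype_eq, hP.du], by rw [Submodule.finrank_map_subtype_eq, hP.dw]⟩
      · rw [← Submodule.map_sup, hP.compl.sup_eq_top, Submodule.map_top, Submodule.range_subtype]
      · rintro _ ⟨u, hu, rfl⟩ _ ⟨v, hv, rfl⟩
        exact hP.iu u hu v hv
      · rintro _ ⟨u, hu, rfl⟩ _ ⟨v, hv, rfl⟩
        exact hP.iw u hu v hv
    obtain ⟨a, ha⟩ := heven'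
    obtain ⟨b, hb⟩ := heven
    obtain ⟨U1, W1, hU1, hW1, hs1, hu1, hw1, hU1d, hW1d⟩ := hsub (E s) (E (-s)) hc.sup_eq_top horth a ha
    obtain ⟨U2, W2, hU2, hW2, hs2, hu2, hw2, hU2d, hW2d⟩ := hsub (E (-s)) (E s) (by rw [sup_comm]; exact hc.sup_eq_top)
      (fun x hx y hy => (eq_zero_comm hB).1 (horth y hy x hx)) b hb
    have hiso : ∀ {U U' : Submodule F V}, U ≤ E s → U' ≤ E (-s) → (∀ u ∈ U, ∀ v ∈ U, B u v = 0) →
        (∀ u ∈ U', ∀ v ∈ U', B u v = 0) → ∀ x ∈ U ⊔ U', ∀ y ∈ U ⊔ U', B x y = 0 := by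
      intro U U' h1 h3 h4 h5 x hx y hy
      obtain ⟨x1, hx1, x2, hx2, rfl⟩ := Submodule.mem_sup.1 hx
      obtain ⟨y1, hy1, y2, hy2, rfl⟩ := Submodule.mem_sup.1 hy
      rw [map_add, map_add, LinearMap.add_apply, LinearMap.add_apply, h4 _ hx1 _ hy1, h5 _ hx2 _ hy2,
        horth _ (h1 hx1) _ (h3 hy2), (eq_zero_comm hB).1 (horth _ (h1 hy1) _ (h3 hx2))]
      simp
    have hinv : ∀ {U U' : Submodule F V}, U ≤ E s → U' ≤ E (-s) → (U ⊔ U').map (e : V →ₗ[F] V) = U ⊔ U' := by
      intro U U' h1 h3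
      refine hfix _ fun v hv => ?_
      obtain ⟨x, hx, y, hy, rfl⟩ := Submodule.mem_sup.1 hv
      rw [map_add, (hE _ _).1 (h1 hx), (hE _ _).1 (h3 hy)]
      exact Submodule.add_mem_sup (Submodule.smul_mem _ _ hx) (Submodule.smul_mem _ _ hy)
    have hdd : ∀ {U U' : Submodule F V}, U ≤ E s → U' ≤ E (-s) → finrank F U = a → finrank F U' = b →
        finrank F (U ⊔ U' : Submodule F V) = m := by
      intro U U' h1 h3 h4 h5
      have := Submodule.finrank_sup_add_finrank_inf_eq U U'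
      rw [show U ⊓ U' = ⊥ from eq_bot_iff.2 ((inf_le_inf h1 h3).trans hc.inf_eq_bot.le), finrank_bot] at this
      omega
    have htop : (U1 ⊔ U2) ⊔ (W1 ⊔ W2) = ⊤ := by
      rw [eq_top_iff, ← hc.sup_eq_top, sup_sup_sup_comm]
      exact sup_le_sup hs1 hs2
    refine ⟨U1 ⊔ U2, W1 ⊔ W2, ⟨hiso hU1 hU2 hu1 hu2, hiso hW1 hW2 hw1 hw2, ⟨?_, codisjoint_iff.2 htop⟩,
      hdd hU1 hU2 hU1d hU2d, hdd hW1 hW2 hW1d hW2d⟩, hinv hU1 hU2, hinv hW1 hW2⟩
    rw [disjoint_iff]
    have := Submodule.finrank_sup_add_finrank_inf_eq (U1 ⊔ U2) (W1 ⊔ W2)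
    rw [htop, finrank_top, hV, hdd hU1 hU2 hU1d hU2d, hdd hW1 hW2 hW1d hW2d] at this
    exact Submodule.finrank_eq_zero.1 (by omega)
  · have hiso : ∀ t, t * σ t = -1 → ∀ a ∈ E t, ∀ b ∈ E t, B a b = 0 := by
      intro t ht a ha b hb
      have := he a b
      rw [(hE _ _).1 ha, (hE _ _).1 hb] at this
      simp only [map_smulₛₗ, LinearMap.smul_apply, RingHom.id_apply, smul_eq_mul] at this
      have h3 : (2 : F) * B a b = 0 := by linear_combination -this + (B a b) * ht
      exact (mul_eq_zero.1 h3).resolve_left h2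
    have hN' : -s * σ (-s) = -1 := by rw [map_neg, neg_mul_neg]; exact hN
    have h1 := finrank_le_of_iso hB (hiso _ hN') hc
    have h3 := finrank_le_of_iso hB (hiso _ hN) hc.symm
    exact ⟨E s, E (-s), ⟨hiso _ hN, hiso _ hN', hc, by omega, by omega⟩, hfix _ (hEfix s), hfix _ (hEfix _)⟩

/-! Arithmetic of the group order. -/

theorem guOrder_succ (q n : ℕ) : guOrder q (n + 1) =
    (if Even (n + 1) then q ^ n * (q ^ (n + 1) - 1) else q ^ n * (q ^ (n + 1) + 1)) * guOrder q n := by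
  unfold guOrder
  rw [Finset.prod_range_succ', mul_comm]
  congr 1
  exact Finset.prod_congr rfl fun j _ => by rw [Nat.succ_sub_succ]

theorem guOrder_even (q m : ℕ) : ∃ A, guOrder q (m + m) = q ^ A * (∏ i ∈ Finset.range m, ((q ^ 2) ^ (i + 1) - 1)) *
    ∏ i ∈ Finset.range m, (q ^ (2 * i + 1) + 1) := by
  induction m with
  | zero => exact ⟨0, by simp [guOrder]⟩
  | succ m ih =>
    obtain ⟨A, hA⟩ := ih
    refine ⟨(m + m + 1) + (m + m) + A, ?_⟩
    rw [show m + 1 + (m + 1) = m + m + 1 + 1 by omega, guOrder_succ, guOrder_succ, hA,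
      if_pos (show Even (m + m + 1 + 1) from ⟨m + 1, by omega⟩), if_neg (Nat.not_even_iff_odd.2 ⟨m, by omega⟩),
      Finset.prod_range_succ, Finset.prod_range_succ, show (q ^ 2) ^ (m + 1) = q ^ (m + m + 1 + 1) by rw [← pow_mul]; ring_nf,
      show 2 * m + 1 = m + m + 1 by omega, pow_add, pow_add]
    ring

theorem prod_stab (Q m : ℕ) : (∏ i : Fin m, (Q ^ m - Q ^ (i : ℕ))) =
    (∏ i ∈ Finset.range m, Q ^ i) * ∏ i ∈ Finset.range m, (Q ^ (i + 1) - 1) := by
  rw [Fin.prod_univ_eq_prod_range (fun i => Q ^ m - Q ^ i) m, ← Finset.prod_range_reflect (fun i => Q ^ (i + 1) - 1) m,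
    ← Finset.prod_mul_distrib]
  refine Finset.prod_congr rfl fun i hi => ?_
  rw [Finset.mem_range] at hi
  rw [Nat.mul_sub, mul_one, ← pow_add, show i + (m - 1 - i + 1) = m by omega]

theorem exists_odd_factor {q m r : ℕ} (hq : 1 < q) (hr : r.Prime) (hrq : ¬ r ∣ q)
    (h : r * (∏ i : Fin m, ((q ^ 2) ^ m - (q ^ 2) ^ (i : ℕ))) ∣ guOrder q (m + m)) :
    ∃ i < m, r ∣ q ^ (2 * i + 1) + 1 := by
  obtain ⟨A, hA⟩ := guOrder_even q m
  rw [hA, prod_stab, ← mul_assoc, mul_right_comm (q ^ A)] at h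
  have hP : 0 < ∏ i ∈ Finset.range m, ((q ^ 2) ^ (i + 1) - 1) := Finset.prod_pos fun i _ =>
    Nat.sub_pos_of_lt (Nat.one_lt_pow (by omega) (Nat.one_lt_pow (by omega) hq))
  have h' := (dvd_mul_right r _).trans (Nat.dvd_of_mul_dvd_mul_right hP h)
  rcases hr.dvd_mul.1 h' with h1 | h1
  · exact absurd (hr.dvd_of_dvd_pow h1) hrq
  · obtain ⟨i, hi, h2⟩ := (Prime.dvd_finset_prod_iff hr.prime _).1 h1
    exact ⟨i, Finset.mem_range.1 hi, h2⟩

theorem dvd_factor_iff {q r l : ℕ} (hq : 1 < q) [Fact r.Prime] (hrq : ¬ r ∣ q) :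
    r ∣ (if Even l then q ^ (l - 1) * (q ^ l - 1) else q ^ (l - 1) * (q ^ l + 1)) ↔ (-(q : ZMod r)) ^ l = 1 := by
  have hp : ∀ k, ¬ r ∣ q ^ k := fun k h => hrq ((Fact.out : r.Prime).dvd_of_dvd_pow h)
  rcases Nat.even_or_odd l with h | h
  · rw [if_pos h, (Fact.out : r.Prime).dvd_mul, or_iff_right (hp _), h.neg_pow, ← ZMod.natCast_eq_zero_iff,
      Nat.cast_sub (Nat.one_le_pow _ _ (by omega)), Nat.cast_pow, Nat.cast_one, sub_eq_zero]
  · rw [if_neg (Nat.not_even_iff_odd.2 h), (Fact.out : r.Prime).dvd_mul, or_iff_right (hp _), h.neg_pow,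
      ← ZMod.natCast_eq_zero_iff, Nat.cast_add, Nat.cast_pow, Nat.cast_one, neg_eq_iff_eq_neg, ← eq_neg_iff_add_eq_zero]

end Cfsg.Agent.HermPair
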